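import Groth.Agent.CSALib.RedNorm
import Groth.Agent.GalCohMisc.UnitsH90
import Groth.Prelude.Def_GSzCSA

/-! Galois cohomology of the norm one group of a central simple algebra. -/

set_option autoImplicit false
universe u v w

open scoped TensorProduct
attribute [local instance] CSAGal.tensorAction GpH1.unitsAction

namespace Groth.Agent.SL1H1

variable {k : Type u} [Field k] {K : Type v} [Field K] [Algebra k K] {A : Type w} [Ring A]
  [Algebra k A] [FiniteDimensional k A]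

theorem smul_tmul_eq (σ : K ≃ₐ[k] K) (x : K) (a : A) : σ • (x ⊗ₜ[k] a) = σ x ⊗ₜ[k] a := by
  rw [CSAGal.smul_eq_map, Algebra.TensorProduct.map_tmul]
  rfl

theorem smul_smul_eq (σ : K ≃ₐ[k] K) (c : K) (y : K ⊗[k] A) : σ • (c • y) = σ c • σ • y := by
  induction y using TensorProduct.induction_on with
  | zero => simp
  | tmul x a => rw [TensorProduct.smul_tmul', smul_tmul_eq, smul_tmul_eq, TensorProduct.smul_tmul',
      smul_eq_mul, smul_eq_mul, map_mul]
  | add x y hx hy => simp only [smul_add, hx, hy]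

/-- The Galois invariants of `K ⊗ A` are `A`. -/
theorem exists_eq_one_tmul [FiniteDimensional k K] [IsGalois k K] (y : K ⊗[k] A)
    (hy : ∀ σ : K ≃ₐ[k] K, σ • y = y) : ∃ a : A, (1 : K) ⊗ₜ[k] a = y := by
  classical
  let b := Module.finBasis k A
  let e := TensorProduct.equivFinsuppOfBasisRight (M := K) b
  have he : ∀ (σ : K ≃ₐ[k] K) (z : K ⊗[k] A) i, e (σ • z) i = σ (e z i) := by
    intro σ z i
    induction z using TensorProduct.induction_on with
    | zero => simp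
    | tmul x a => rw [smul_tmul_eq]; simp [e, map_smul]
    | add x y hx hy => simp [smul_add, hx, hy]
  have hi : ∀ i, ∃ c : k, algebraMap k K c = e y i := fun i =>
    (IsGalois.mem_range_algebraMap_iff_fixed (F := k) (e y i)).mpr fun σ => by rw [← he, hy]
  choose c hc using hi
  refine ⟨∑ i, c i • b i, e.injective (Finsupp.ext fun i => ?_)⟩
  rw [← hc i]
  simp [e, Finsupp.single_apply, Algebra.algebraMap_eq_smul_one]

/-- A trivialisation of `K ⊗ A` as a trivialisation of its trivial base change. -/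
noncomputable def selfSplit {n : ℕ} (ψ : K ⊗[k] A ≃ₐ[K] Matrix (Fin n) (Fin n) K) :
    K ⊗[K] (K ⊗[k] A) ≃ₐ[K] Matrix (Fin n) (Fin n) K :=
  (Algebra.TensorProduct.lid K (K ⊗[k] A)).trans ψ

variable {n : ℕ} (ψ : K ⊗[k] A ≃ₐ[K] Matrix (Fin n) (Fin n) K)
  {NK : (K ⊗[k] A) →* K} (hNK : CSAGal.IsRedNorm K (K ⊗[k] A) NK)

include hNK in
theorem redNorm_baseChange_eq (y : K ⊗[k] A) : NK y = (ψ y).det := by
  have h := CSALib.redNorm_eq (selfSplit ψ) hNK y
  simpa [selfSplit] using h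

include ψ hNK in
theorem redNorm_one_tmul {N : A →* k} (hN : CSAGal.IsRedNorm k A N) (a : A) :
    NK (1 ⊗ₜ[k] a) = algebraMap k K (N a) := by
  rw [redNorm_baseChange_eq ψ hNK, CSALib.redNorm_eq ψ hN]

/-- The conjugate of a trivialisation by a Galois automorphism. -/
noncomputable def twist (σ : K ≃ₐ[k] K) : K ⊗[k] A ≃ₐ[K] Matrix (Fin n) (Fin n) K :=
  AlgEquiv.ofBijective
    { toFun := fun y => (ψ (σ • y)).map σ.symm
      map_one' := by simp [smul_one]
      map_mul' := fun x y => by rw [smul_mul', map_mul, Matrix.map_mul]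
      map_zero' := by simp [smul_zero]
      map_add' := fun x y => by rw [smul_add, map_add, Matrix.map_add _ (fun a b => map_add σ.symm a b)]
      commutes' := fun c => by
        rw [Algebra.algebraMap_eq_smul_one, smul_smul_eq, smul_one, map_smul, map_one,
          Algebra.algebraMap_eq_smul_one]
        ext i j
        by_cases h : i = j <;> simp [h] }
    ⟨fun x y h => by
      have h' := Matrix.map_injective σ.symm.injective h
      exact smul_left_cancel σ (ψ.injective h'),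
    fun M => by
      obtain ⟨y, hy⟩ := ψ.surjective (M.map σ)
      refine ⟨σ⁻¹ • y, ?_⟩
      show (ψ (σ • σ⁻¹ • y)).map σ.symm = M
      rw [smul_inv_smul, hy]
      ext i j
      simp⟩

include ψ hNK in
theorem redNorm_smul (σ : K ≃ₐ[k] K) (y : K ⊗[k] A) : NK (σ • y) = σ (NK y) := by
  rw [redNorm_baseChange_eq (twist ψ σ) hNK y, redNorm_baseChange_eq ψ hNK]
  show (ψ (σ • y)).det = σ.toRingEquiv.toRingHom ((ψ (σ • y)).map σ.symm).det
  rw [RingHom.map_det]
  congr 1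
  ext i j
  simp

variable [FiniteDimensional k K] [IsGalois k K]

include ψ hNK in
theorem surjective (a : GpH1.OneCocycle (K ≃ₐ[k] K) (K ⊗[k] A)ˣ)
    (ha : ∀ σ, NK (a σ : K ⊗[k] A) = 1) :
    ∃ (c : kˣ) (b : (K ⊗[k] A)ˣ), NK (b : K ⊗[k] A) = algebraMap k K (c : k) ∧
      ∀ σ : K ≃ₐ[k] K, a σ = b⁻¹ * σ • b := by
  obtain ⟨c₀, hc₀⟩ := GalCohMisc.exists_unit_of_cocycle (fun σ => a σ) fun σ τ => by
    rw [a.2 σ τ, Units.val_mul]
    rfl
  have hb : ∀ σ : K ≃ₐ[k] K, a σ = (c₀⁻¹)⁻¹ * σ • c₀⁻¹ := fun σ => by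
    rw [inv_inv, smul_inv', eq_mul_inv_iff_mul_eq]
    exact Units.ext (hc₀ σ)
  set b := c₀⁻¹
  have hunit : IsUnit (NK (b : K ⊗[k] A)) := b.isUnit.map NK
  have hfix : ∀ σ : K ≃ₐ[k] K, σ (NK (b : K ⊗[k] A)) = NK (b : K ⊗[k] A) := by
    intro σ
    have e : b * a σ = σ • b := by rw [hb σ, mul_inv_cancel_left]
    have h := congrArg (fun u : (K ⊗[k] A)ˣ => NK (u : K ⊗[k] A)) e
    simp only [Units.val_mul, map_mul, ha, mul_one] at h
    rw [← redNorm_smul ψ hNK]
    exact h.symm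
  obtain ⟨c, hc⟩ := (IsGalois.mem_range_algebraMap_iff_fixed (F := k) _).mpr hfix
  refine ⟨Units.mk0 c (fun h => hunit.ne_zero (by rw [← hc, h, map_zero])), b, hc.symm, hb⟩

include ψ hNK in
theorem cohomologous_iff {N : A →* k} (hN : CSAGal.IsRedNorm k A N) (c c' : kˣ)
    (b b' : (K ⊗[k] A)ˣ) (hb : NK (b : K ⊗[k] A) = algebraMap k K (c : k))
    (hb' : NK (b' : K ⊗[k] A) = algebraMap k K (c' : k)) :
    (∃ s : (K ⊗[k] A)ˣ, NK (s : K ⊗[k] A) = 1 ∧
        ∀ σ : K ≃ₐ[k] K, b'⁻¹ * σ • b' = s⁻¹ * (b⁻¹ * σ • b) * σ • s) ↔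
      ∃ x : Aˣ, (c' : k) = N (x : A) * (c : k) := by
  let ι : Aˣ →* (K ⊗[k] A)ˣ :=
    Units.map (Algebra.TensorProduct.includeRight : A →ₐ[k] K ⊗[k] A).toRingHom.toMonoidHom
  have hι : ∀ (σ : K ≃ₐ[k] K) (x : Aˣ), σ • ι x = ι x := fun σ x => by
    refine Units.ext ?_
    show σ • ((1 : K) ⊗ₜ[k] (x : A)) = _
    rw [smul_tmul_eq, map_one]
    rfl
  have hNι : ∀ x : Aˣ, NK (ι x : K ⊗[k] A) = algebraMap k K (N x) := fun x =>
    redNorm_one_tmul ψ hNK hN _
  constructor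
  · rintro ⟨s, hs, hσ⟩
    let y := b' * (b * s)⁻¹
    have hfix : ∀ σ : K ≃ₐ[k] K, σ • y = y := fun σ => by
      have h := hσ σ
      rw [inv_mul_eq_iff_eq_mul] at h
      simp only [y, smul_mul', smul_inv']
      rw [h]
      group
    obtain ⟨x₁, hx₁⟩ := exists_eq_one_tmul (y : K ⊗[k] A) fun σ => congrArg Units.val (hfix σ)
    obtain ⟨x₂, hx₂⟩ := exists_eq_one_tmul ((y⁻¹ : (K ⊗[k] A)ˣ) : K ⊗[k] A) fun σ => by
      have h := congrArg (fun u : (K ⊗[k] A)ˣ => (u⁻¹ : (K ⊗[k] A)ˣ)) (hfix σ)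
      simp only [← smul_inv'] at h
      exact congrArg Units.val h
    have hinj := Algebra.TensorProduct.includeRight_injective (R := k) (A := K) (B := A)
      (algebraMap k K).injective
    let x : Aˣ := ⟨x₁, x₂, hinj (by
        rw [map_mul, map_one]
        show ((1 : K) ⊗ₜ[k] x₁) * ((1 : K) ⊗ₜ[k] x₂) = 1
        rw [hx₁, hx₂, Units.mul_inv]), hinj (by
        rw [map_mul, map_one]
        show ((1 : K) ⊗ₜ[k] x₂) * ((1 : K) ⊗ₜ[k] x₁) = 1
        rw [hx₁, hx₂, Units.inv_mul])⟩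
    refine ⟨x, (algebraMap k K).injective ?_⟩
    have e : b' = ι x * (b * s) := by
      rw [show ι x = y from Units.ext hx₁]
      simp only [y]
      group
    rw [map_mul, ← hb, ← hb', ← hNι, e, Units.val_mul, Units.val_mul, map_mul, map_mul, hs, mul_one]
  · rintro ⟨x, hx⟩
    refine ⟨b⁻¹ * (ι x)⁻¹ * b', ?_, fun σ => ?_⟩
    · have e : ι x * b * (b⁻¹ * (ι x)⁻¹ * b') = b' := by group
      have h := congrArg (fun u : (K ⊗[k] A)ˣ => NK (u : K ⊗[k] A)) e
      rw [Units.val_mul, Units.val_mul, map_mul, map_mul, hNι, hb, ← map_mul (algebraMap k K), ← hx, hb'] at h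
      have hne : algebraMap k K (c' : k) ≠ 0 := by simp
      exact mul_left_cancel₀ hne (h.trans (mul_one _).symm)
    · simp only [smul_mul', smul_inv', hι]
      group

end Groth.Agent.SL1H1
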